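import Mathlib.Algebra.BigOperators.Field
import Mathlib.Algebra.Polynomial.Reverse
import Mathlib.Algebra.Polynomial.RingDivision
import Mathlib.LinearAlgebra.Matrix.ToLinearEquiv
import Mathlib.LinearAlgebra.Matrix.Adjugate
import Mathlib.LinearAlgebra.Matrix.NonsingularInverse
import Mathlib.Data.Fin.Tuple.Sort
import Mathlib.Data.Fintype.Pigeonhole

/-!
Birkhoff factorisation of invertible matrices over `k[t, t⁻¹]`, and uniqueness of the exponents.
-/

universe u v
set_option autoImplicit false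

open Polynomial Matrix

namespace Groth.Agent.H34.SplitP1

/-- A ring `B` presented as `k[t, t⁻¹]` by the two maps `k[X] → B`, `X ↦ t` and `X ↦ t⁻¹`. -/
structure Data (k : Type u) [Field k] (B : Type v) [CommRing B] where
  u : Bˣ
  φ0 : k[X] →+* B
  φ1 : k[X] →+* B
  X0 : φ0 X = u
  X1 : φ1 X = (u⁻¹ : Bˣ)
  C_eq : ∀ c, φ1 (C c) = φ0 (C c)
  inj0 : Function.Injective φ0
  inj1 : Function.Injective φ1
  surj : ∀ b : B, ∃ (n : ℕ) (p : k[X]), b * (u : B) ^ n = φ0 p

namespace Data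

variable {k : Type u} [Field k] {B : Type v} [CommRing B] (D : Data k B)

/-- `t ^ z`. -/
def up (z : ℤ) : B := ((D.u ^ z : Bˣ) : B)

theorem up_add (a b : ℤ) : D.up (a + b) = D.up a * D.up b := by simp [up, zpow_add]

@[simp] theorem up_zero : D.up 0 = 1 := by simp [up]

theorem up_natCast (n : ℕ) : D.up n = (D.u : B) ^ n := by simp [up]

theorem isUnit_up (z : ℤ) : IsUnit (D.up z) := (D.u ^ z).isUnit

theorem φ0_X_pow (n : ℕ) : D.φ0 (X ^ n) = D.up n := by rw [map_pow, D.X0, up_natCast]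

theorem φ1_X_pow (n : ℕ) : D.φ1 (X ^ n) = D.up (-n) := by
  rw [map_pow, D.X1]; simp [up]

theorem up_sum {ι : Type*} (s : Finset ι) (d : ι → ℤ) :
    ∏ i ∈ s, D.up (d i) = D.up (∑ i ∈ s, d i) := by
  classical
  induction s using Finset.induction with
  | empty => simp
  | insert a s ha ih => rw [Finset.prod_insert ha, Finset.sum_insert ha, up_add, ih]

theorem φ1_reflect (p : k[X]) {m : ℕ} (hm : p.natDegree ≤ m) :
    D.φ1 (reflect m p) * D.up m = D.φ0 p := by
  letI := D.u.invertible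
  have h : ∀ (φ : k[X] →+* B) (q : k[X]), φ q = eval₂ (φ.comp C) (φ X) q := fun φ q ↦ by
    rw [← Polynomial.hom_eval₂, eval₂_C_X]
  rw [h D.φ1, h D.φ0, D.X0, D.X1, up_natCast, show D.φ1.comp C = D.φ0.comp C from
    RingHom.ext D.C_eq, ← invOf_units]
  exact eval₂_reflect_mul_pow _ (D.u : B) m p hm

/-- The data with the two charts exchanged. -/
def symm : Data k B where
  u := D.u⁻¹
  φ0 := D.φ1
  φ1 := D.φ0
  X0 := D.X1
  X1 := by rw [inv_inv]; exact D.X0
  C_eq c := (D.C_eq c).symm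
  inj0 := D.inj1
  inj1 := D.inj0
  surj b := by
    obtain ⟨n, p, hp⟩ := D.surj b
    refine ⟨p.natDegree, reflect p.natDegree p * X ^ n, ?_⟩
    rw [map_mul, φ1_X_pow]
    rw [← up_natCast, ← D.φ1_reflect p le_rfl] at hp
    have h1 : ((D.u⁻¹ : Bˣ) : B) ^ p.natDegree = D.up (-(p.natDegree : ℤ)) := by simp [up]
    rw [h1]
    refine (D.isUnit_up (n : ℤ)).mul_right_cancel ?_
    rw [mul_assoc, mul_comm (D.up _) (D.up (n : ℤ)), ← mul_assoc, hp, mul_assoc, ← up_add,
      add_neg_cancel, mul_assoc, ← up_add, neg_add_cancel]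

/-- Units are monomials. -/
theorem exists_of_isUnit {b : B} (hb : IsUnit b) :
    ∃ (c : k) (m : ℤ), c ≠ 0 ∧ b = D.φ0 (C c) * D.up m := by
  obtain ⟨b', hb'⟩ := hb.exists_right_inv
  obtain ⟨n, p, hp⟩ := D.surj b
  obtain ⟨n', p', hp'⟩ := D.surj b'
  have hpp : p * p' = X ^ (n + n') := D.inj0 (by
    rw [map_mul, ← hp, ← hp', φ0_X_pow, Nat.cast_add, up_add, up_natCast, up_natCast,
      show b * (D.u : B) ^ n * (b' * (D.u : B) ^ n') = (b * b') * ((D.u : B) ^ n * (D.u : B) ^ n') by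
        ring, hb', one_mul])
  obtain ⟨i, -, hi⟩ := (dvd_prime_pow Polynomial.prime_X (n + n')).1 ⟨p', hpp.symm⟩
  obtain ⟨v, hv⟩ := hi.symm
  obtain ⟨c, hc, hcv⟩ := Polynomial.isUnit_iff.1 v.isUnit
  refine ⟨c, (i : ℤ) - n, hc.ne_zero, (D.isUnit_up (n : ℤ)).mul_right_cancel ?_⟩
  rw [mul_assoc, ← up_add, sub_add_cancel, D.up_natCast n, hp, ← φ0_X_pow, ← map_mul, ← hv,
    ← hcv, mul_comm]

theorem eq_zero_of_pos {p q : k[X]} {n : ℤ} (hn : 0 < n)
    (h : D.φ1 p = D.up n * D.φ0 q) : p = 0 := by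
  obtain ⟨n, rfl⟩ := Int.eq_ofNat_of_zero_le hn.le
  have h2 : reflect p.natDegree p = q * X ^ (n + p.natDegree) := D.inj0 (by
    rw [← D.φ1_reflect (reflect p.natDegree p) (m := p.natDegree)
      (natDegree_reflect_le.trans (by simp)), reflect_reflect, h, map_mul, φ0_X_pow, Nat.cast_add,
      up_add]
    ring)
  rcases eq_or_ne q 0 with rfl | hq
  · rwa [zero_mul, reflect_eq_zero_iff] at h2
  · exfalso
    have h3 : (reflect p.natDegree p).natDegree ≤ p.natDegree :=
      natDegree_reflect_le.trans (by simp)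
    rw [h2, natDegree_mul hq (pow_ne_zero _ X_ne_zero), natDegree_X_pow] at h3
    have : 0 < n := by exact_mod_cast hn
    omega

variable {r : ℕ}

/-- A partial factorisation `A φ0(Q) = φ1(W) diag(t ^ d)`. -/
def Partial (A : Matrix (Fin r) (Fin r) B) (d : Fin r → ℤ) : Prop :=
  ∃ W Q : Matrix (Fin r) (Fin r) k[X], IsUnit Q.det ∧
    A * Q.map D.φ0 = W.map D.φ1 * diagonal fun j ↦ D.up (d j)

theorem exists_partial (A : Matrix (Fin r) (Fin r) B) : ∃ d, D.Partial A d := by
  have h : ∀ i j, ∃ N : ℕ, ∀ m : ℕ, N ≤ m → ∃ w, A i j = D.φ1 w * D.up m := fun i j ↦ by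
    obtain ⟨n, p, hp⟩ := D.surj (A i j)
    refine ⟨p.natDegree, fun m hm ↦ ⟨reflect m p * X ^ n, (D.isUnit_up (n : ℤ)).mul_right_cancel ?_⟩⟩
    rw [D.up_natCast n, hp, ← D.φ1_reflect p hm, map_mul, φ1_X_pow, ← D.up_natCast n]
    simp only [mul_assoc, ← up_add]
    congr 2
    ring
  choose N hN using h
  let M := Finset.univ.sup fun i ↦ Finset.univ.sup fun j ↦ N i j
  choose w hw using fun i j ↦ hN i j M
    ((Finset.le_sup (f := fun j ↦ N i j) (Finset.mem_univ j)).trans
      (Finset.le_sup (f := fun i ↦ Finset.univ.sup fun j ↦ N i j) (Finset.mem_univ i)))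
  refine ⟨fun _ ↦ (M : ℤ), Matrix.of w, 1, by simp, ?_⟩
  rw [Matrix.map_one _ (map_zero _) (map_one _), mul_one]
  ext i j
  rw [Matrix.mul_diagonal]
  exact hw i j

/-- One improvement step: a singular reduction of `W` at infinity lowers the exponents. -/
theorem Partial.step {A : Matrix (Fin r) (Fin r) B} {d : Fin r → ℤ}
    {W Q : Matrix (Fin r) (Fin r) k[X]} (hQ : IsUnit Q.det)
    (h : A * Q.map D.φ0 = W.map D.φ1 * diagonal fun j ↦ D.up (d j))
    (h0 : (W.map (eval (0 : k))).det = 0) :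
    ∃ d' : Fin r → ℤ, D.Partial A d' ∧ ∑ j, d' j = ∑ j, d j - 1 := by
  classical
  obtain ⟨c, hc, hWc⟩ := Matrix.exists_mulVec_eq_zero_iff.2 h0
  obtain ⟨i0, hi0⟩ := Function.ne_iff.1 hc
  have hne : (Finset.univ.filter fun i ↦ c i ≠ 0).Nonempty :=
    ⟨i0, Finset.mem_filter.2 ⟨Finset.mem_univ _, hi0⟩⟩
  obtain ⟨j0, hj0, hmax⟩ := Finset.exists_max_image _ d hne
  replace hj0 : c j0 ≠ 0 := (Finset.mem_filter.1 hj0).2
  replace hmax : ∀ i, c i ≠ 0 → d i ≤ d j0 := fun i hi ↦
    hmax i (Finset.mem_filter.2 ⟨Finset.mem_univ _, hi⟩)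
  let c' : Fin r → k := fun i ↦ c i / c j0
  let v : Fin r → k[X] := fun i ↦ C (c' i) * X ^ (d j0 - d i).toNat
  let N : Matrix (Fin r) (Fin r) k[X] := (1 : Matrix (Fin r) (Fin r) k[X]).updateCol j0 v
  have hN : N.det = 1 := by
    have h1 : Matrix.cramer (1 : Matrix (Fin r) (Fin r) k[X]) v j0 = v j0 := by
      rw [Matrix.cramer_one]; rfl
    rw [Matrix.cramer_apply] at h1
    exact h1.trans (by simp [v, c', hj0])
  have hdvd : ∀ i, X ∣ ∑ l, W i l * C (c' l) := fun i ↦ by
    rw [X_dvd_iff, coeff_zero_eq_eval_zero, eval_finsetSum]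
    have h1 := congrFun hWc i
    simp only [mulVec, dotProduct, map_apply, Pi.zero_apply] at h1
    simp only [eval_mul, eval_C, c', ← mul_div_assoc, ← Finset.sum_div, h1, zero_div]
  choose w hw using hdvd
  refine ⟨Function.update d j0 (d j0 - 1), ⟨W.updateCol j0 w, Q * N, ?_, ?_⟩, ?_⟩
  · rw [det_mul, hN, mul_one]; exact hQ
  · have hmap : (Q * N).map D.φ0 = Q.map D.φ0 * N.map D.φ0 := Matrix.map_mul
    rw [hmap, ← mul_assoc, h]
    ext i j
    rw [Matrix.mul_apply, Matrix.mul_diagonal]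
    simp only [Matrix.mul_diagonal, map_apply]
    by_cases hj : j = j0
    · subst hj
      have hterm : ∀ l, D.φ1 (W i l) * D.up (d l) * D.φ0 (N l j) =
          D.φ1 (W i l * C (c' l)) * D.up (d j) := fun l ↦ by
        simp only [N, updateCol_self, v]
        by_cases hl : c l = 0
        · simp [c', hl]
        · rw [map_mul, map_mul, φ0_X_pow, D.C_eq,
            show D.φ1 (W i l) * D.up (d l) * (D.φ0 (C (c' l)) * D.up ((d j - d l).toNat : ℤ)) =
              D.φ1 (W i l) * D.φ0 (C (c' l)) * (D.up (d l) * D.up ((d j - d l).toNat : ℤ)) by ring,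
            ← up_add, show d l + ((d j - d l).toNat : ℤ) = d j by have := hmax l hl; omega]
      simp only [hterm, ← Finset.sum_mul]
      rw [← map_sum, hw i, map_mul, updateCol_self, Function.update_self]
      rw [show D.φ1 X = D.up (-1) by rw [D.X1]; simp [up], show d j - 1 = -1 + d j by ring, up_add]
      ring
    · simp only [N, updateCol_ne hj, Function.update_of_ne hj]
      rw [Finset.sum_eq_single j (fun l _ hl ↦ by simp [one_apply_ne hl]) (by simp)]
      simp
  · have hd : ∀ j, Function.update d j0 (d j0 - 1) j = d j - if j = j0 then 1 else 0 := fun j ↦ by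
      by_cases hj : j = j0
      · subst hj; simp
      · simp [hj]
    simp [hd, Finset.sum_sub_distrib]

/-- Birkhoff factorisation. -/
theorem exists_factor {A : Matrix (Fin r) (Fin r) B} (hA : IsUnit A.det) :
    ∃ (d : Fin r → ℤ) (P Q : Matrix (Fin r) (Fin r) k[X]), IsUnit P.det ∧ IsUnit Q.det ∧
      A * Q.map D.φ0 = P.map D.φ1 * diagonal fun j ↦ D.up (d j) := by
  obtain ⟨a, m, ha, hAdet⟩ := D.exists_of_isUnit hA
  have key : ∀ {d : Fin r → ℤ} {W Q : Matrix (Fin r) (Fin r) k[X]}, IsUnit Q.det →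
      A * Q.map D.φ0 = W.map D.φ1 * diagonal (fun j ↦ D.up (d j)) →
      m ≤ ∑ j, d j ∧ ∃ c : k, c ≠ 0 ∧ W.det = C c * X ^ (∑ j, d j - m).toNat := by
    intro d W Q hQ h
    obtain ⟨q, hq, hqd⟩ := Polynomial.isUnit_iff.1 hQ
    have h1 := congrArg Matrix.det h
    rw [det_mul, det_mul, det_diagonal, D.up_sum, ← RingHom.mapMatrix_apply,
      ← RingHom.mapMatrix_apply, ← RingHom.map_det, ← RingHom.map_det, ← hqd, hAdet] at h1
    have h2 : D.φ1 W.det = D.φ1 (C (a * q)) * D.up (m - ∑ j, d j) := by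
      rw [D.C_eq, map_mul C, map_mul, sub_eq_add_neg, up_add]
      calc D.φ1 W.det = D.φ1 W.det * D.up (∑ j, d j) * D.up (-∑ j, d j) := by
            rw [mul_assoc, ← up_add, add_neg_cancel, up_zero, mul_one]
        _ = _ := by rw [← h1]; ring
    have haq : a * q ≠ 0 := mul_ne_zero ha hq.ne_zero
    have hle : m ≤ ∑ j, d j := by
      by_contra hlt
      refine haq (C_eq_zero.1 ?_)
      have h3 : W.det * X ^ (m - ∑ j, d j).toNat = C (a * q) := D.inj1 (by
        rw [map_mul, h2, φ1_X_pow, mul_assoc, ← up_add,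
          show m - ∑ j, d j + -((m - ∑ j, d j).toNat : ℤ) = 0 by omega, up_zero, mul_one])
      have h4 := congrArg (eval (0 : k)) h3
      rw [eval_mul, eval_pow, eval_X, eval_C, zero_pow (by omega), mul_zero] at h4
      rw [← h4, map_zero]
    refine ⟨hle, a * q, haq, D.inj1 ?_⟩
    rw [h2, map_mul D.φ1 (C (a * q)), φ1_X_pow]
    congr 2
    omega
  have main : ∀ (N : ℕ) (d : Fin r → ℤ), D.Partial A d → (∑ j, d j - m).toNat = N →
      ∃ (d : Fin r → ℤ) (P Q : Matrix (Fin r) (Fin r) k[X]), IsUnit P.det ∧ IsUnit Q.det ∧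
        A * Q.map D.φ0 = P.map D.φ1 * diagonal fun j ↦ D.up (d j) := by
    intro N
    induction N using Nat.strong_induction_on with
    | _ N ih =>
    rintro d ⟨W, Q, hQ, h⟩ hN
    obtain ⟨hle, c, hc, hW⟩ := key hQ h
    rcases Nat.eq_zero_or_pos N with rfl | hpos
    · refine ⟨d, W, Q, ?_, hQ, h⟩
      rw [hW, hN, pow_zero, mul_one]
      exact isUnit_C.2 (isUnit_iff_ne_zero.2 hc)
    · have h0 : (W.map (eval (0 : k))).det = 0 := by
        rw [← coe_evalRingHom, ← RingHom.mapMatrix_apply, ← RingHom.map_det, hW, coe_evalRingHom,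
          eval_mul, eval_pow, eval_X, zero_pow (by omega), mul_zero]
      obtain ⟨d', hd', hsum⟩ := Partial.step D hQ h h0
      obtain ⟨W', Q', hQ', h'⟩ := hd'
      exact ih _ (by omega) d' ⟨W', Q', hQ', h'⟩ rfl
  obtain ⟨d, hd⟩ := D.exists_partial A
  exact main _ d hd rfl

/-- Birkhoff factorisation with monotone exponents. -/
theorem exists_factor_monotone {A : Matrix (Fin r) (Fin r) B} (hA : IsUnit A.det) :
    ∃ (d : Fin r → ℤ) (P Q : Matrix (Fin r) (Fin r) k[X]), Monotone d ∧ IsUnit P.det ∧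
      IsUnit Q.det ∧ A * Q.map D.φ0 = P.map D.φ1 * diagonal fun j ↦ D.up (d j) := by
  obtain ⟨d, P, Q, hP, hQ, h⟩ := D.exists_factor hA
  let σ := Tuple.sort d
  refine ⟨d ∘ σ, P.submatrix id σ, Q.submatrix id σ, Tuple.monotone_sort d, ?_, ?_, ?_⟩
  · rw [det_permute']; exact (IsUnit.map (Int.castRingHom k[X]) (Units.isUnit _)).mul hP
  · rw [det_permute']; exact (IsUnit.map (Int.castRingHom k[X]) (Units.isUnit _)).mul hQ
  · ext i j
    have := congrFun (congrFun h i) (σ j)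
    rw [Matrix.mul_diagonal, Matrix.mul_apply] at this
    rw [Matrix.mul_diagonal, Matrix.mul_apply]
    exact this

theorem det_eq_zero_of_block {M : Matrix (Fin r) (Fin r) k[X]} (m : Fin r)
    (h : ∀ i j, i ≤ m → m ≤ j → M i j = 0) : M.det = 0 := by
  rw [det_apply]
  refine Finset.sum_eq_zero fun σ _ ↦ ?_
  obtain ⟨i, hi⟩ : ∃ j, m ≤ j ∧ σ j ≤ m := by
    by_contra hne
    push Not at hne
    have hmaps : Set.MapsTo σ (Finset.Ici m : Finset (Fin r)) (Finset.Ioi m : Finset (Fin r)) :=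
      fun j hj ↦ by simpa using hne j (by simpa using hj)
    have := Finset.card_le_card_of_injOn σ hmaps σ.injective.injOn
    rw [Fin.card_Ici, Fin.card_Ioi] at this
    have := m.isLt
    omega
  exact (congrArg (Equiv.Perm.sign σ • ·)
    (Finset.prod_eq_zero (f := fun j ↦ M (σ j) j) (Finset.mem_univ i) (h (σ i) i hi.2 hi.1))).trans (smul_zero _)

/-- The exponents are unique, one inequality. -/
theorem le_of_intertwine {d e : Fin r → ℤ} (hd : Antitone d) (he : Antitone e)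
    {P Q : Matrix (Fin r) (Fin r) k[X]} (hP : IsUnit P.det)
    (h : P.map D.φ1 * diagonal (fun j ↦ D.up (e j)) =
      diagonal (fun i ↦ D.up (d i)) * Q.map D.φ0) : d ≤ e := by
  intro m
  by_contra hlt
  refine hP.ne_zero (det_eq_zero_of_block m fun i j hi hj ↦
    D.eq_zero_of_pos (q := Q i j) (n := d i - e j) ?_ ?_)
  · have := hd hi
    have := he hj
    have : e m < d m := lt_of_not_ge hlt
    omega
  · have h1 := congrFun (congrFun h i) j
    rw [Matrix.mul_diagonal, Matrix.diagonal_mul, map_apply, map_apply] at h1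
    refine (D.isUnit_up (e j)).mul_right_cancel ?_
    rw [h1, mul_right_comm, ← up_add, sub_add_cancel]

/-- The exponents are unique. -/
theorem eq_of_intertwine {d e : Fin r → ℤ} (hd : Antitone d) (he : Antitone e)
    {P Q : Matrix (Fin r) (Fin r) k[X]} (hP : IsUnit P.det) (hQ : IsUnit Q.det)
    (h : P.map D.φ1 * diagonal (fun j ↦ D.up (e j)) =
      diagonal (fun i ↦ D.up (d i)) * Q.map D.φ0) : d = e := by
  refine le_antisymm (D.le_of_intertwine hd he hP h) (D.le_of_intertwine he hd (P := P⁻¹)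
    (Q := Q⁻¹) ((isUnit_nonsing_inv_det_iff).2 hP) ?_)
  have h1 : (P⁻¹).map D.φ1 * P.map D.φ1 = 1 := by
    rw [← Matrix.map_mul, nonsing_inv_mul _ hP, Matrix.map_one _ (map_zero _) (map_one _)]
  have h2 : Q.map D.φ0 * (Q⁻¹).map D.φ0 = 1 := by
    rw [← Matrix.map_mul, mul_nonsing_inv _ hQ, Matrix.map_one _ (map_zero _) (map_one _)]
  calc (P⁻¹).map D.φ1 * diagonal (fun i ↦ D.up (d i))
      = (P⁻¹).map D.φ1 * (diagonal (fun i ↦ D.up (d i)) * Q.map D.φ0) * (Q⁻¹).map D.φ0 := by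
        rw [mul_assoc, mul_assoc, h2, mul_one]
    _ = _ := by rw [← h, ← mul_assoc, h1, one_mul]

end Data

end Groth.Agent.H34.SplitP1
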