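import Groth.Agent.Lib.TensorMod.Basis
import Groth.Agent.Lib.TensorMod.FinsetTriv
import Groth.Agent.Lib.CurveBundle.Coherent
import Groth.Agent.Lib.CohBasics.Affine
import Mathlib.LinearAlgebra.FreeModule.PID

/-!
Bases of sections: change of basis, finite coproducts, and freeness over an affine open whose
ring of functions is a principal ideal domain.
-/

universe u
set_option autoImplicit false

open CategoryTheory CategoryTheory.Limits AlgebraicGeometry Opposite TopologicalSpace

namespace Groth.Agent.H34.SplitP1.Basis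

open Groth.Agent.Lib Groth.Agent.Lib.TensorMod.Dual Groth.Agent.Lib.TensorMod.Gen
open Groth.Agent.Lib.TensorMod.Basis
open Groth.Agent.Lib.TensorMod.HomGlue (rs_app sections_ext_cover)

variable {X : Scheme.{u}} {M N : X.Modules} {U : X.Opens} {n r : ℕ}

/-- `comb` as a linear map. -/
noncomputable def combₗ (e : Fin n → Γ(M, U)) {V : X.Opens} (h : V ≤ U) :
    (Fin n → Γ(X, V)) →ₗ[Γ(X, V)] Γ(M, V) :=
  Fintype.linearCombination Γ(X, V) fun k => rs M h (e k)

theorem combₗ_apply (e : Fin n → Γ(M, U)) {V : X.Opens} (h : V ≤ U) (a : Fin n → Γ(X, V)) :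
    combₗ e h a = comb e h a := rfl

/-- A basis gives coordinates over the open itself. -/
theorem exists_coord {e : Fin n → Γ(M, U)} (he : IsBasis e) (s : Γ(M, U)) :
    ∃ a : Fin n → Γ(X, U), s = ∑ k, a k • e k := by
  obtain ⟨a, ha⟩ := (he U le_rfl).2 s
  exact ⟨a, by simpa [comb, rs_self] using ha.symm⟩

theorem coord_unique {e : Fin n → Γ(M, U)} (he : IsBasis e) {a b : Fin n → Γ(X, U)}
    (h : ∑ k, a k • e k = ∑ k, b k • e k) : a = b :=
  (he U le_rfl).1 (by simpa [comb, rs_self] using h)

/-- Change of basis. -/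
theorem exists_matrix {e e' : Fin n → Γ(M, U)} (he : IsBasis e) (he' : IsBasis e') :
    ∃ C : Matrix (Fin n) (Fin n) Γ(X, U), IsUnit C.det ∧ ∀ j, e j = ∑ i, C i j • e' i := by
  choose a ha using fun j => exists_coord he' (e j)
  choose b hb using fun j => exists_coord he (e' j)
  refine ⟨Matrix.of fun i j => a j i, ?_, ha⟩
  refine Matrix.isUnit_det_of_right_inverse (B := Matrix.of fun i j => b j i) ?_
  ext i j
  have h1 : e' j = ∑ i, (∑ l, b j l * a l i) • e' i := by
    rw [hb j]
    simp_rw [ha, Finset.smul_sum, smul_smul]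
    rw [Finset.sum_comm]
    simp_rw [Finset.sum_smul]
  have h2 : (fun i => ∑ l, b j l * a l i) = fun i => if i = j then 1 else 0 :=
    coord_unique he' (h1.symm.trans (by simp))
  have h3 := congrFun h2 i
  simp only [Matrix.mul_apply, Matrix.of_apply, Matrix.one_apply]
  rw [← h3]
  exact Finset.sum_congr rfl fun l _ => mul_comm _ _

/-- An invertible change of coordinates, columns version. -/
theorem isBasis_col {e : Fin n → Γ(M, U)} (he : IsBasis e)
    {C : Matrix (Fin n) (Fin n) Γ(X, U)} (hC : IsUnit C.det) :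
    IsBasis fun j => ∑ i, C i j • e i :=
  he.of_matrix C.transpose (by rwa [Matrix.det_transpose])

/-- The image of a basis under an isomorphism is a basis. -/
theorem isBasis_map (g : M ≅ N) {e : Fin n → Γ(M, U)} (he : IsBasis e) :
    IsBasis fun k => g.hom.app U (e k) := fun V hV => by
  have h : comb (fun k => g.hom.app U (e k)) hV = g.hom.app V ∘ comb e hV :=
    funext fun a => (app_comb g.hom e hV a).symm
  rw [h]
  exact (ConcreteCategory.bijective_of_isIso (g.hom.app V)).comp (he V hV)

/-- Generators of the summands give a basis of a finite coproduct. -/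
theorem isBasis_sigma (L : Fin n → X.Modules) (e : ∀ j, Γ(L j, U))
    (he : ∀ j, IsGen (L j) U (e j)) :
    IsBasis fun j => (Sigma.ι L j).app U (e j) := fun V hV => by
  classical
  let π : ∀ k, (∐ L) ⟶ L k := fun k =>
    Sigma.desc fun l => if h : l = k then eqToHom (by rw [h]) else 0
  have hid : ∑ k, π k ≫ Sigma.ι L k = 𝟙 (∐ L) := by
    refine Sigma.hom_ext _ _ fun l => ?_
    rw [Preadditive.comp_sum, Category.comp_id, Finset.sum_eq_single l]
    · simp [π]
    · intro k _ hk
      simp [π, Ne.symm hk]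
    · simp
  have hcomb : ∀ a : Fin n → Γ(X, V), comb (fun j => (Sigma.ι L j).app U (e j)) hV a =
      ∑ k, (Sigma.ι L k).app V (a k • rs (L k) hV (e k)) := fun a => by
    refine Finset.sum_congr rfl fun k _ => ?_
    rw [Scheme.Modules.Hom.app_smul, rs_app]
  have hπι : ∀ (k l : Fin n) (r : Γ(L l, V)), (π k).app V ((Sigma.ι L l).app V r) =
      (if h : l = k then eqToHom (by rw [h]) else (0 : L l ⟶ L k)).app V r := fun k l r => by
    change (Sigma.ι L l ≫ π k).app V r = _
    simp only [π, Sigma.ι_desc]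
  constructor
  · intro a b hab
    funext k
    have h := congrArg ((π k).app V) hab
    rw [hcomb, hcomb, map_sum, map_sum, Finset.sum_eq_single k, Finset.sum_eq_single k, hπι,
      hπι] at h
    · simp only [↓reduceDIte, eqToHom_refl] at h
      exact (he k V hV).1 h
    all_goals first
      | (intro l _ hl; rw [hπι, dif_neg hl]; rfl)
      | simp
  · intro y
    choose a ha using fun k => (he k V hV).2 ((π k).app V y)
    refine ⟨a, (hcomb a).trans ?_⟩
    simp only at ha
    simp only [ha]
    have := congrArg (fun φ : (∐ L) ⟶ ∐ L => φ.app V y) hid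
    rw [TensorMod.LocIso.sum_app] at this
    exact this

section PID

variable [IsIntegral X]

theorem rf_injective {V : X.Opens} (h : V ≤ U) [Nonempty V] :
    Function.Injective (rf (X := X) h) := by
  obtain ⟨⟨x, hx⟩⟩ := ‹Nonempty V›
  intro a b hab
  refine germ_injective_of_isIntegral X x (h hx) ?_
  rw [← TopCat.Presheaf.germ_res_apply X.presheaf (homOfLE h) x hx a,
    ← TopCat.Presheaf.germ_res_apply X.presheaf (homOfLE h) x hx b]
  exact congrArg _ hab

/-- A finite locally free module is free on an affine open whose functions form a PID. -/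
theorem exists_basis_pid (hU : IsAffineOpen U) [Nonempty U] [IsPrincipalIdealRing Γ(X, U)]
    (hM : FlatMod.IsFinLocFreeOfRank r M) : ∃ e : Fin r → Γ(M, U), IsBasis e := by
  classical
  obtain ⟨hq, hft⟩ := CurveBundle.Coherent.isCoh (TensorMod.LocFree.of_rank hM)
  have : M.IsQuasicoherent := hq
  have : SheafOfModules.IsFiniteType (R := X.ringCatSheaf) M := hft
  have : Module.Finite Γ(X, U) Γ(M, U) := CohBasics.Affine.finite_sections hU
  have hbasis : ∀ x : X, ∃ (W : X.Opens) (e' : Fin r → Γ(M, W)), x ∈ W ∧ IsBasis e' := fun x => by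
    obtain ⟨W, hxW, ⟨i⟩⟩ := hM x
    obtain ⟨e', he'⟩ := exists_basis_of_iso i
    exact ⟨W, e', hxW, he'⟩
  choose W0 e0 hxW0 he0 using hbasis
  have htf : Module.IsTorsionFree Γ(X, U) Γ(M, U) := by
    refine .of_smul_eq_zero fun a s has => ?_
    by_cases ha : a = 0
    · exact Or.inl ha
    refine Or.inr (sections_ext_cover W0 M
      (fun x _ => Opens.mem_iSup.2 ⟨x, hxW0 x⟩) fun x => ?_)
    let V := U ⊓ W0 x
    obtain ⟨c, hc⟩ := ((he0 x) V inf_le_right).2 (rs M inf_le_left s)
    rw [show rs M inf_le_left (0 : Γ(M, U)) = 0 from map_zero _, ← hc]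
    by_cases hne : Nonempty V
    · have h0 : comb (e0 x) (inf_le_right : V ≤ W0 x) (fun k => rf inf_le_left a * c k) = 0 := by
        have : rs M (inf_le_left : V ≤ U) (a • s) = 0 := by rw [has]; exact map_zero _
        rw [rs_smul, ← hc, comb, Finset.smul_sum] at this
        simpa only [comb, smul_smul] using this
      have h1 : (fun k => rf (inf_le_left : V ≤ U) a * c k) = 0 :=
        ((he0 x) V inf_le_right).1 (h0.trans (map_zero (combₗ (e0 x) inf_le_right)).symm)
      have h2 : c = 0 := funext fun k => by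
        have := congrFun h1 k
        have hV : (V : Set X).Nonempty := by obtain ⟨⟨y, hy⟩⟩ := hne; exact ⟨y, hy⟩
        refine (mul_eq_zero.1 this).resolve_left fun h => ha ?_
        exact rf_injective (inf_le_left : V ≤ U) (h.trans (map_zero _).symm)
      rw [h2]
      exact map_zero (combₗ (e0 x) inf_le_right)
    · rw [show c = 0 from funext fun k => ?_]
      · exact map_zero (combₗ (e0 x) inf_le_right)
      have hbot : V = ⊥ := by
        refine le_antisymm (fun y hy => absurd ⟨⟨y, hy⟩⟩ hne) bot_le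
      have : Subsingleton Γ(X, V) := by
        rw [hbot]; exact CommRingCat.subsingleton_of_isTerminal X.sheaf.isTerminalOfEmpty
      exact Subsingleton.elim _ _
  have : Module.Free Γ(X, U) Γ(M, U) := Module.free_of_finite_type_torsion_free'
  obtain ⟨m, ⟨b⟩⟩ : ∃ m : ℕ, Nonempty (Module.Basis (Fin m) Γ(X, U) Γ(M, U)) :=
    ⟨_, ⟨Module.finBasis Γ(X, U) Γ(M, U)⟩⟩
  let e : Fin m → Γ(M, U) := b
  have hloc : ∀ x ∈ U, ∃ (f : Γ(X, U)) (e' : Fin r → Γ(M, X.basicOpen f)),
      x ∈ X.basicOpen f ∧ IsBasis e' := fun x hx => by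
    obtain ⟨f, hfW, hxf⟩ := hU.exists_basicOpen_le (⟨x, hxW0 x⟩ : W0 x) hx
    exact ⟨f, _, hxf, (he0 x).res hfW⟩
  have hbij : ∀ (f : Γ(X, U)), (X.basicOpen f : Set X).Nonempty →
      Function.Bijective (comb e (X.basicOpen_le f)) := by
    intro f hf
    have hf0 : f ≠ 0 := fun h => by
      rw [h, Scheme.basicOpen_zero] at hf
      obtain ⟨y, hy⟩ := hf
      exact hy
    have hu : IsUnit (rf (X.basicOpen_le f) f) :=
      RingedSpace.isUnit_res_basicOpen X.toLocallyRingedSpace.toRingedSpace f
    have hloc := QCoh.Localizing.localizes_of_isAffineOpen M hU f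
    have hres : ∀ a : Fin m → Γ(X, U), rs M (X.basicOpen_le f) (∑ k, a k • e k) =
        comb e (X.basicOpen_le f) fun k => rf (X.basicOpen_le f) (a k) := fun a => by
      simp only [comb, rs_sum, rs_smul]
    constructor
    · intro a a' haa
      have := hU.isLocalization_basicOpen f
      obtain ⟨⟨_, N, rfl⟩, hN⟩ := IsLocalization.exist_integer_multiples_of_finite
        (Submonoid.powers f) (fun k => a k - a' k)
      choose c hc using hN
      have hc' : ∀ k, rf (X.basicOpen_le f) (c k) =
          rf (X.basicOpen_le f) f ^ N * (a k - a' k) := fun k => by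
        have := hc k
        rw [Algebra.smul_def, map_pow] at this
        exact this
      have hs : rs M (X.basicOpen_le f) (∑ k, c k • e k) = 0 := by
        rw [hres]
        simp only [comb, hc', mul_smul, sub_smul, smul_sub, Finset.sum_sub_distrib,
          ← Finset.smul_sum]
        rw [sub_eq_zero]
        exact congrArg _ haa
      obtain ⟨q, hq'⟩ := hloc.sep _ hs
      rw [Finset.smul_sum] at hq'
      simp only [smul_smul] at hq'
      funext k
      have hck := Fintype.linearIndependent_iff.1 b.linearIndependent _ hq' k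
      have hck' : c k = 0 := (mul_eq_zero.1 hck).resolve_left (pow_ne_zero _ hf0)
      have h2 := hc' k
      rw [hck', show rf (X.basicOpen_le f) (0 : Γ(X, U)) = 0 from map_zero _, eq_comm, (hu.pow N).mul_right_eq_zero, sub_eq_zero] at h2
      exact h2
    · intro s
      obtain ⟨q, t, ht⟩ := hloc.ext' s
      obtain ⟨v, hv⟩ := (hu.pow q).exists_left_inv
      refine ⟨fun k => v * rf (X.basicOpen_le f) (b.repr t k), ?_⟩
      have h1 : comb e (X.basicOpen_le f) (fun k => rf (X.basicOpen_le f) (b.repr t k)) =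
          rf (X.basicOpen_le f) f ^ q • s := by
        rw [← hres, b.sum_repr]
        exact ht
      simp only [comb, mul_smul, ← Finset.smul_sum]
      exact (congrArg (v • ·) h1).trans (by rw [smul_smul, hv, one_smul])
  have hm : m = r := by
    obtain ⟨⟨x, hx⟩⟩ := ‹Nonempty U›
    obtain ⟨f, e', hxf, he'⟩ := hloc x hx
    have : Nonempty (X.basicOpen f) := ⟨⟨x, hxf⟩⟩
    let i1 := LinearEquiv.ofBijective (combₗ e (X.basicOpen_le f)) (hbij f ⟨x, hxf⟩)
    let i2 := LinearEquiv.ofBijective (combₗ e' (le_refl (X.basicOpen f))) (he' _ le_rfl)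
    have := (i1.trans i2.symm).finrank_eq
    rwa [Module.finrank_fin_fun, Module.finrank_fin_fun] at this
  subst hm
  refine ⟨e, isBasis_of_forall_exists fun x hx => ?_⟩
  obtain ⟨f, e', hxf, he'⟩ := hloc x hx
  refine ⟨X.basicOpen f, X.basicOpen_le f, hxf, ?_⟩
  choose C hC using fun k => exists_coord he' (rs M (X.basicOpen_le f) (e k))
  let C' : Matrix (Fin m) (Fin m) Γ(X, X.basicOpen f) := Matrix.of C
  have hCe : (fun k => rs M (X.basicOpen_le f) (e k)) = fun k => ∑ l, C' k l • e' l := funext hC
  rw [hCe]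
  refine he'.of_matrix C' ((Matrix.isUnit_iff_isUnit_det _).1
    (Matrix.vecMul_surjective_iff_isUnit.1 fun y => ?_))
  obtain ⟨a, ha⟩ := (hbij f ⟨x, hxf⟩).2 (comb e' le_rfl y)
  refine ⟨a, (he' _ le_rfl).1 (ha.symm.trans ?_).symm⟩
  rw [← comb_rs e (X.basicOpen_le f) le_rfl, hCe, comb_matrix]
  congr 1
  ext i
  simp only [Matrix.vecMul, dotProduct, Matrix.map_apply, rf_self]

end PID

end Groth.Agent.H34.SplitP1.Basis
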