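import Groth.Prelude.Def_Twist2
import Groth.Agent.Lib.ProjSpace.Basic
import Groth.Agent.Lib.ProjTilde.QCoh
import Groth.Agent.Lib.TensorMod.Gen
import Groth.Agent.H34.SplitP1.Birkhoff

/-!
The two charts of the projective line, their intersection as `k[t, t⁻¹]`, and the generators of
`O(d)` on the charts.
-/

noncomputable section

universe u
set_option autoImplicit false

open CategoryTheory AlgebraicGeometry TopologicalSpace Opposite

namespace Groth.Agent.H34.SplitP1

open Groth.Agent.Lib.TensorMod.Dual Groth.Agent.Lib.TensorMod.Gen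
open Groth.Agent.Lib.ProjTilde Groth.Agent.Lib.ProjSpace.Charts Groth.Agent.Lib.ProjSpace.Basic

variable (k : Type u) [Field k]

local notation "𝒢" => CohB1.polyGrading 1 k

/-- The projective line. -/
abbrev P1 : Scheme.{u} := CohB1.ProjSpace 1 k

/-- The chart `D₊(T_i)`. -/
abbrev U (i : Fin 2) : (P1 k).Opens := Proj.basicOpen 𝒢 (MvPolynomial.X i)

/-- The intersection of the two charts. -/
abbrev U01 : (P1 k).Opens := U k 0 ⊓ U k 1

/-- The functions on a chart, as a polynomial ring in `T_j / T_i`. -/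
def φ (i : Fin 2) : Polynomial k →+* Γ(P1 k, U k i) :=
  (Proj.awayToSection 𝒢 (MvPolynomial.X i)).hom.comp
    ((chartEquiv k i).toRingHom.comp
      (MvPolynomial.uniqueAlgEquiv k (Fin 1)).symm.toRingEquiv.toRingHom)

theorem φ_bijective (i : Fin 2) : Function.Bijective (φ k i) := by
  have h : Function.Bijective (Proj.awayToSection 𝒢 (MvPolynomial.X i)).hom :=
    ConcreteCategory.bijective_of_isIso
      (Proj.basicOpenIsoAway 𝒢 (MvPolynomial.X i) (X_mem_one i) one_pos).hom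
  exact h.comp ((chartEquiv k i).bijective.comp
    (MvPolynomial.uniqueAlgEquiv k (Fin 1)).symm.bijective)

theorem φ_C (i : Fin 2) (c : k) :
    φ k i (Polynomial.C c) = Proj.awayToSection 𝒢 (MvPolynomial.X i) (constHom k i c) := by
  change Proj.awayToSection 𝒢 _
    (chartEquiv k i ((MvPolynomial.uniqueAlgEquiv k (Fin 1)).symm (Polynomial.C c))) = _
  rw [Polynomial.C_eq_algebraMap, AlgEquiv.commutes, MvPolynomial.algebraMap_eq, chartEquiv_C]

theorem φ_X (i : Fin 2) :
    φ k i Polynomial.X = Proj.awayToSection 𝒢 (MvPolynomial.X i) (coord k i (i.succAbove 0)) := by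
  change Proj.awayToSection 𝒢 _
    (chartEquiv k i ((MvPolynomial.uniqueAlgEquiv k (Fin 1)).symm Polynomial.X)) = _
  rw [show (MvPolynomial.uniqueAlgEquiv k (Fin 1)).symm Polynomial.X = MvPolynomial.X 0 from
    (AlgEquiv.symm_apply_eq _).2 (by simp [MvPolynomial.uniqueAlgEquiv]), chartEquiv_X]

variable {k}

/-- The value of a function at a point, in the localisation there. -/
abbrev fval {W : (P1 k).Opens} (r : Γ(P1 k, W)) (x : W) : Twist.Loc 𝒢 x.1 :=
  ((r : Twist.O (𝒜 := 𝒢) (op W)).1 x).val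

theorem fun_ext {W : (P1 k).Opens} {r s : Γ(P1 k, W)} (h : ∀ x : W, fval r x = fval s x) : r = s :=
  Subtype.ext (funext fun x => HomogeneousLocalization.val_injective _ (h x))

theorem fval_mul {W : (P1 k).Opens} (r s : Γ(P1 k, W)) (x : W) :
    fval (r * s) x = fval r x * fval s x := HomogeneousLocalization.val_mul _ _

theorem fval_one {W : (P1 k).Opens} (x : W) : fval (1 : Γ(P1 k, W)) x = 1 :=
  HomogeneousLocalization.val_one

theorem fval_rf {W V : (P1 k).Opens} (h : V ≤ W) (r : Γ(P1 k, W)) (x : V) :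
    fval (rf h r) x = fval r ⟨x.1, h x.2⟩ := rfl

theorem fval_φ_C (i : Fin 2) (c : k) (x : U k i) :
    fval (φ k i (Polynomial.C c)) x = algebraMap _ _ (MvPolynomial.C c : MvPolynomial (Fin 2) k) := by
  rw [φ_C, ← Localization.mk_one_eq_algebraMap]
  rfl

theorem fval_φ_X (i : Fin 2) (x : U k i) :
    fval (φ k i Polynomial.X) x *
      algebraMap _ _ (MvPolynomial.X i : MvPolynomial (Fin 2) k) =
        algebraMap _ _ (MvPolynomial.X (i.succAbove 0) : MvPolynomial (Fin 2) k) := by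
  rw [φ_X]
  change (Localization.mk (MvPolynomial.X (i.succAbove 0)) ⟨MvPolynomial.X i, x.2⟩ :
    Twist.Loc 𝒢 x.1) * _ = _
  rw [Localization.mk_eq_mk']
  exact IsLocalization.mk'_spec _ _ _

variable (k) in
theorem basicOpen_φ_X (i : Fin 2) :
    (P1 k).basicOpen (φ k i Polynomial.X) =
      Proj.basicOpen 𝒢 (MvPolynomial.X i * MvPolynomial.X (i.succAbove 0)) := by
  have hmem : (MvPolynomial.X (i.succAbove 0) : MvPolynomial (Fin 2) k) ∈ 𝒢 ((1 : ℕ) • (1 : ℕ)) :=
    X_mem_one _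
  have h : φ k i Polynomial.X = Proj.awayToSection 𝒢 (MvPolynomial.X i)
      (HomogeneousLocalization.Away.mk 𝒢 (X_mem_one i) 1 _ hmem) := by
    rw [φ_X]
    refine congrArg _ (HomogeneousLocalization.val_injective _ ?_)
    rw [val_coord, HomogeneousLocalization.Away.val_mk]
    congr 1
    exact Subtype.ext (pow_one _).symm
  rw [h]
  exact QCoh.basicOpen_awayToSection (X_mem_one i) 1 _ hmem

variable (k)

theorem basicOpen_φ_X_eq_U01 (i : Fin 2) : (P1 k).basicOpen (φ k i Polynomial.X) = U01 k := by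
  rw [basicOpen_φ_X, Proj.basicOpen_mul]
  fin_cases i
  · rfl
  · exact inf_comm _ _

theorem U01_le (i : Fin 2) : U01 k ≤ U k i := by
  fin_cases i
  · exact inf_le_left
  · exact inf_le_right

/-- A chart's functions, restricted to the intersection. -/
def ψ (i : Fin 2) : Polynomial k →+* Γ(P1 k, U01 k) :=
  ((P1 k).presheaf.map (homOfLE (U01_le k i)).op).hom.comp (φ k i)

theorem ψ_apply (i : Fin 2) (p : Polynomial k) : ψ k i p = rf (U01_le k i) (φ k i p) := rfl

theorem ψ_injective_surj (i : Fin 2) : Function.Injective (ψ k i) ∧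
    ∀ b, ∃ (n : ℕ) (p : Polynomial k), b * ψ k i Polynomial.X ^ n = ψ k i p := by
  have hU : IsAffineOpen (U k i) := isAffineOpen_basicOpen_X (R := k) i
  have key : ∀ (W : (P1 k).Opens) (hW : W ≤ U k i), W = (P1 k).basicOpen (φ k i Polynomial.X) →
      Function.Injective ((((P1 k).presheaf.map (homOfLE hW).op).hom).comp (φ k i)) ∧
        ∀ b : Γ(P1 k, W), ∃ (n : ℕ) (p : Polynomial k),
          b * rf hW (φ k i Polynomial.X) ^ n = rf hW (φ k i p) := by
    rintro W hW rfl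
    have hloc := hU.isLocalization_basicOpen (φ k i Polynomial.X)
    constructor
    · refine (injective_iff_map_eq_zero _).2 fun p hp => ?_
      obtain ⟨⟨_, n, rfl⟩, hn⟩ := (IsLocalization.map_eq_zero_iff
        (Submonoid.powers (φ k i Polynomial.X))
        Γ(P1 k, (P1 k).basicOpen (φ k i Polynomial.X)) _).1
        (show algebraMap Γ(P1 k, U k i) _ (φ k i p) = 0 from hp)
      have h0 : Polynomial.X ^ n * p = 0 :=
        (φ_bijective k i).1 (by rw [map_mul, map_pow, map_zero]; exact hn)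
      exact (mul_eq_zero.1 h0).resolve_left (pow_ne_zero _ Polynomial.X_ne_zero)
    · intro b
      obtain ⟨⟨a, _, n, rfl⟩, hb⟩ := IsLocalization.surj (Submonoid.powers (φ k i Polynomial.X)) b
      obtain ⟨p, rfl⟩ := (φ_bijective k i).2 a
      exact ⟨n, p, by rw [← map_pow]; exact hb⟩
  exact key (U01 k) (U01_le k i) (basicOpen_φ_X_eq_U01 k i).symm

theorem ψ_mul_ψ : ψ k 0 Polynomial.X * ψ k 1 Polynomial.X = 1 := by
  refine fun_ext fun x => ?_
  rw [fval_mul, fval_one, ψ_apply, ψ_apply, fval_rf, fval_rf]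
  have h0 := fval_φ_X (k := k) 0 ⟨x.1, U01_le k 0 x.2⟩
  have h1 := fval_φ_X (k := k) 1 ⟨x.1, U01_le k 1 x.2⟩
  rw [show (0 : Fin 2).succAbove 0 = 1 from rfl] at h0
  rw [show (1 : Fin 2).succAbove 0 = 0 from rfl] at h1
  have hu : IsUnit (algebraMap _ (Twist.Loc 𝒢 x.1) (MvPolynomial.X 0 : MvPolynomial (Fin 2) k)) :=
    IsLocalization.map_units (Twist.Loc 𝒢 x.1)
      (⟨MvPolynomial.X 0, U01_le k 0 x.2⟩ : x.1.asHomogeneousIdeal.toIdeal.primeCompl)
  refine hu.mul_right_cancel ?_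
  rw [one_mul, mul_right_comm, h0, mul_comm, h1]

/-- `Γ(U₀ ∩ U₁)` is `k[t, t⁻¹]`, `t = T₁ / T₀`. -/
def data : Data k Γ(P1 k, U01 k) where
  u := ⟨ψ k 0 Polynomial.X, ψ k 1 Polynomial.X, ψ_mul_ψ k, by rw [mul_comm]; exact ψ_mul_ψ k⟩
  φ0 := ψ k 0
  φ1 := ψ k 1
  X0 := rfl
  X1 := rfl
  C_eq c := fun_ext fun x => by
    rw [ψ_apply, ψ_apply, fval_rf, fval_rf, fval_φ_C, fval_φ_C]
  inj0 := (ψ_injective_surj k 0).1
  inj1 := (ψ_injective_surj k 1).1
  surj := (ψ_injective_surj k 0).2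

/-- The generator `T_i ^ d` of `O(d)` on a chart. -/
def gen (d : ℤ) (i : Fin 2) : Γ(Twist.twistProjSpace 1 k d, U k i) :=
  (Basic.twistEquiv (U k i)).symm
    (Frac.fracSec (ℳ := 𝒢) (U k i) (j := (-d).toNat) (s := MvPolynomial.X i ^ (-d).toNat)
      (a := MvPolynomial.X i ^ d.toNat)
      (by simpa using SetLike.pow_mem_graded (-d).toNat (X_mem_one (R := k) i))
      (Frac.Deg.of_mem (ℳ := 𝒢) (i := d.toNat)
        (by simpa using SetLike.pow_mem_graded d.toNat (X_mem_one (R := k) i)) (Or.inl (by omega)))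
      fun x hx h => hx (x.isPrime.mem_of_pow_mem _ h))

variable {k}

/-- The value of a section of `O(d)` at a point. -/
abbrev sval {d : ℤ} {W : (P1 k).Opens} (σ : Γ(Twist.twistProjSpace 1 k d, W)) (x : W) :
    Twist.Loc 𝒢 x.1 :=
  (((σ : Twist.sectN (𝒜 := 𝒢) d (op W))).1 x : Twist.twistAt 𝒢 d x.1).1

theorem sect_ext {d : ℤ} {W : (P1 k).Opens} {σ τ : Γ(Twist.twistProjSpace 1 k d, W)}
    (h : ∀ x : W, sval σ x = sval τ x) : σ = τ :=
  Subtype.ext (funext fun x => Subtype.ext (h x))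

theorem sval_smul {d : ℤ} {W : (P1 k).Opens} (r : Γ(P1 k, W))
    (σ : Γ(Twist.twistProjSpace 1 k d, W)) (x : W) : sval (r • σ) x = fval r x * sval σ x :=
  Twist.coe_smul_val d x.1 _ _

theorem sval_rs {d : ℤ} {W V : (P1 k).Opens} (h : V ≤ W) (σ : Γ(Twist.twistProjSpace 1 k d, W))
    (x : V) : sval (rs _ h σ) x = sval σ ⟨x.1, h x.2⟩ := rfl

theorem sval_gen (d : ℤ) (i : Fin 2) (x : U k i) :
    sval (gen k d i) x *
      algebraMap _ _ (MvPolynomial.X i : MvPolynomial (Fin 2) k) ^ (-d).toNat =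
        algebraMap _ _ (MvPolynomial.X i : MvPolynomial (Fin 2) k) ^ d.toNat := by
  have h := Basic.val_twistToTilde (gen k d i) x
  rw [show Basic.twistToTilde (gen k d i) = _ from (Basic.twistEquiv (U k i)).apply_symm_apply _,
    Frac.val_fracSec] at h
  change (((gen k d i : Twist.sectN (𝒜 := 𝒢) d (op (U k i)))).1 x : Twist.twistAt 𝒢 d x.1).1 * _ = _
  rw [← h, ← map_pow, ← map_pow]
  change (Localization.mk _ _ : Twist.Loc 𝒢 x.1) * _ = _
  rw [Localization.mk_eq_mk']
  exact IsLocalization.mk'_spec _ _ _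

theorem eq_unitAt {y : ProjectiveSpectrum 𝒢} {c e : MvPolynomial (Fin 2) k}
    (he : e ∉ y.asHomogeneousIdeal) {v : Twist.Loc 𝒢 y}
    (h : v * algebraMap _ _ e = algebraMap _ _ c) : v = Basic.unitAt y c e he := by
  rw [Basic.unitAt, Localization.mk_eq_mk', IsLocalization.eq_mk'_iff_mul_eq]
  exact h

theorem transition_aux {R : Type u} [CommRing R] {g0 g1 w t A0 A1 : R} {a b : ℕ}
    (hA0 : IsUnit A0) (hA1 : IsUnit A1) (h0 : g0 * A0 ^ b = A0 ^ a) (h1 : g1 * A1 ^ b = A1 ^ a)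
    (ht : t * A0 = A1) (hw : w * t ^ b = t ^ a) : g1 = w * g0 := by
  refine ((hA1.pow b).mul (hA0.pow b)).mul_right_cancel ?_
  rw [← mul_assoc, h1, show w * g0 * (A1 ^ b * A0 ^ b) = w * A1 ^ b * (g0 * A0 ^ b) by ring, h0,
    ← ht, mul_pow, mul_pow, ← hw]
  ring

theorem isGen_gen (d : ℤ) (i : Fin 2) : IsGen (Twist.twistProjSpace 1 k d) (U k i) (gen k d i) := by
  intro W hW
  let c : MvPolynomial (Fin 2) k := MvPolynomial.X i ^ d.toNat
  let e : MvPolynomial (Fin 2) k := MvPolynomial.X i ^ (-d).toNat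
  have hc : c ∈ 𝒢 d.toNat := by simpa using SetLike.pow_mem_graded d.toNat (X_mem_one (R := k) i)
  have he : e ∈ 𝒢 (-d).toNat := by
    simpa using SetLike.pow_mem_graded (-d).toNat (X_mem_one (R := k) i)
  have hU : W ≤ Proj.basicOpen 𝒢 (c * e) := fun x hx h =>
    (x.isPrime.mem_or_mem h).elim (fun h => hW hx (x.isPrime.mem_of_pow_mem _ h))
      (fun h => hW hx (x.isPrime.mem_of_pow_mem _ h))
  have h : (fun a : Γ(P1 k, W) => a • rs (Twist.twistProjSpace 1 k d) hW (gen k d i)) =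
      (Basic.twistEquiv W).symm ∘ Basic.mulEquiv (n := 0) (n' := d) hc he (by omega) hU ∘
        Basic.ofFun := by
    funext a
    refine ((Basic.twistEquiv W).eq_symm_apply).2 (Frac.sect_ext fun x => ?_)
    change sval (a • rs _ hW (gen k d i)) x = _
    rw [sval_smul, sval_rs]
    change _ = Basic.unitAt x.1 c e _ * fval a x
    rw [mul_comm]
    congr 1
    refine eq_unitAt _ ?_
    simp only [c, e, map_pow]
    exact sval_gen d i ⟨x.1, hW x.2⟩
  rw [h]
  exact (Basic.twistEquiv W).symm.bijective.comp ((AddEquiv.bijective _).comp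
    ⟨Basic.ofFun_injective, Basic.ofFun_surjective⟩)

theorem fval_pow {W : (P1 k).Opens} (r : Γ(P1 k, W)) (n : ℕ) (x : W) :
    fval (r ^ n) x = fval r x ^ n := by
  induction n with
  | zero => rw [pow_zero, pow_zero, fval_one]
  | succ n ih => rw [pow_succ, pow_succ, fval_mul, ih]

/-- The transition of `O(d)`: `T₁ ^ d = t ^ d T₀ ^ d`. -/
theorem gen_transition (d : ℤ) :
    rs (Twist.twistProjSpace 1 k d) (U01_le k 1) (gen k d 1) =
      (data k).up d • rs (Twist.twistProjSpace 1 k d) (U01_le k 0) (gen k d 0) := by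
  refine sect_ext fun x => ?_
  rw [sval_smul, sval_rs, sval_rs]
  let A0 := algebraMap (MvPolynomial (Fin 2) k) (Twist.Loc 𝒢 x.1) (MvPolynomial.X 0)
  let A1 := algebraMap (MvPolynomial (Fin 2) k) (Twist.Loc 𝒢 x.1) (MvPolynomial.X 1)
  have hA0 : IsUnit A0 := IsLocalization.map_units (Twist.Loc 𝒢 x.1)
    (⟨MvPolynomial.X 0, U01_le k 0 x.2⟩ : x.1.asHomogeneousIdeal.toIdeal.primeCompl)
  have hA1 : IsUnit A1 := IsLocalization.map_units (Twist.Loc 𝒢 x.1)
    (⟨MvPolynomial.X 1, U01_le k 1 x.2⟩ : x.1.asHomogeneousIdeal.toIdeal.primeCompl)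
  have ht : fval ((data k).u : Γ(P1 k, U01 k)) x * A0 = A1 :=
    fval_φ_X (k := k) 0 ⟨x.1, U01_le k 0 x.2⟩
  have hup : fval ((data k).up d) x * fval ((data k).u : Γ(P1 k, U01 k)) x ^ (-d).toNat =
      fval ((data k).u : Γ(P1 k, U01 k)) x ^ d.toNat := by
    rw [← fval_pow, ← fval_pow, ← fval_mul, ← Data.up_natCast, ← Data.up_natCast, ← Data.up_add]
    congr 2
    omega
  exact transition_aux hA0 hA1 (sval_gen d 0 ⟨x.1, U01_le k 0 x.2⟩)
    (sval_gen d 1 ⟨x.1, U01_le k 1 x.2⟩) ht hup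

end Groth.Agent.H34.SplitP1
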