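import Groth.Agent.H34.SplitP1.Chart
import Groth.Agent.H34.SplitP1.Basis
import Groth.Agent.Lib.Modules.Local

/-!
Vector bundles on the projective line split as sums of `O(d)`, uniquely.
-/

universe u
set_option autoImplicit false

open CategoryTheory CategoryTheory.Limits AlgebraicGeometry Opposite TopologicalSpace

namespace Groth.Agent.H34.SplitP1

open Groth.Agent.Lib Groth.Agent.Lib.TensorMod.Dual Groth.Agent.Lib.TensorMod.Gen
open Groth.Agent.Lib.TensorMod.Basis
open Groth.Agent.Lib.TensorMod.HomGlue (rs_app exists_hom_of_gen)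

variable {k : Type u} [Field k] {r : ℕ} {E : (P1 k).Modules}

theorem iSup_U : iSup (U k) = ⊤ := ProjSpace.Basic.iSup_basicOpen_X_eq_top (n := 1) (R := k)

instance nonempty_U (i : Fin 2) : Nonempty (U k i) := by
  refine ⟨⟨ProjSpace.Basic.zeroPoint 1 k, fun h => ?_⟩⟩
  exact MvPolynomial.X_ne_zero i (show (MvPolynomial.X i : MvPolynomial (Fin 2) k) = 0 from h)

instance isPIR_U (i : Fin 2) : IsPrincipalIdealRing Γ(P1 k, U k i) :=
  IsPrincipalIdealRing.of_surjective (φ k i) (φ_bijective k i).2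

/-- Lift a matrix over `k[X]` to a chart. -/
noncomputable abbrev chartMat (i : Fin 2) (Q : Matrix (Fin r) (Fin r) (Polynomial k)) :
    Matrix (Fin r) (Fin r) Γ(P1 k, U k i) := Q.map (φ k i)

theorem isUnit_det_chartMat (i : Fin 2) {Q : Matrix (Fin r) (Fin r) (Polynomial k)}
    (hQ : IsUnit Q.det) : IsUnit (chartMat i Q).det := by
  rw [chartMat, ← RingHom.mapMatrix_apply, ← RingHom.map_det]
  exact hQ.map _

theorem rs_colSum (i : Fin 2) (v : Fin r → Γ(E, U k i))
    (Q : Matrix (Fin r) (Fin r) (Polynomial k)) (j : Fin r) :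
    rs E (U01_le k i) (∑ l, chartMat i Q l j • v l) =
      ∑ l, ψ k i (Q l j) • rs E (U01_le k i) (v l) := by
  rw [rs_sum]
  exact Finset.sum_congr rfl fun l _ => rs_smul _ _ _ _

/-- A morphism out of `O(e)` from compatible sections. -/
theorem exists_hom (e : ℤ) (m : ∀ a : Fin 2, Γ(E, U k a))
    (hm : rs E (U01_le k 1) (m 1) = (data k).up e • rs E (U01_le k 0) (m 0)) :
    ∃ φ : Twist.twistProjSpace 1 k e ⟶ E, ∀ a, φ.app (U k a) (gen k e a) = m a := by
  refine exists_hom_of_gen iSup_U (gen k e) (isGen_gen e) m fun a b W ha hb c hc => ?_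
  have hinj := (isGen_gen e b W hb).1
  have one : ∀ (a : Fin 2) (ha hb : W ≤ U k a) (c : Γ(P1 k, W)),
      rs (Twist.twistProjSpace 1 k e) ha (gen k e a) = c • rs _ hb (gen k e a) →
        rs E ha (m a) = c • rs E hb (m a) := fun a ha hb c hc => by
    have h1 : c = 1 := (isGen_gen e a W hb).1 (hc.symm.trans (one_smul _ _).symm)
    rw [h1, one_smul]
  have ten : ∀ (h0 : W ≤ U k 0) (h1 : W ≤ U k 1),
      rs (Twist.twistProjSpace 1 k e) h1 (gen k e 1) =
        rf (le_inf h0 h1 : W ≤ U01 k) ((data k).up e) • rs _ h0 (gen k e 0) ∧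
      rs E h1 (m 1) = rf (le_inf h0 h1 : W ≤ U01 k) ((data k).up e) • rs E h0 (m 0) := by
    intro h0 h1
    constructor
    · rw [← rs_rs _ (U01_le k 1) (le_inf h0 h1), gen_transition, rs_smul, rs_rs]
    · rw [← rs_rs _ (U01_le k 1) (le_inf h0 h1), hm, rs_smul, rs_rs]
  obtain rfl | hab := eq_or_ne a b
  · exact one a ha hb c hc
  · obtain rfl | rfl : a = 0 ∨ a = 1 := by omega
    all_goals obtain rfl | rfl : b = 0 ∨ b = 1 := by omega
    · exact absurd rfl hab
    · obtain ⟨h1, h2⟩ := ten ha hb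
      rw [h1, smul_smul] at hc
      have h3 : c * rf (le_inf ha hb : W ≤ U01 k) ((data k).up e) = 1 :=
        (isGen_gen e 0 W ha).1 (hc.symm.trans (one_smul _ _).symm)
      rw [h2, smul_smul, h3, one_smul]
    · obtain ⟨h1, h2⟩ := ten hb ha
      rw [h1] at hc
      rw [h2, ← (isGen_gen e 0 W hb).1 hc]
    · exact absurd rfl hab

/-- The standard basis of `∐ O(d j)` on a chart. -/
noncomputable def stdBasis (d : Fin r → ℤ) (a : Fin 2) (j : Fin r) :
    Γ(∐ fun j => Twist.twistProjSpace 1 k (d j), U k a) :=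
  (Sigma.ι (fun j => Twist.twistProjSpace 1 k (d j)) j).app (U k a) (gen k (d j) a)

theorem isBasis_stdBasis (d : Fin r → ℤ) (a : Fin 2) : IsBasis (stdBasis (k := k) d a) :=
  Basis.isBasis_sigma (fun j => Twist.twistProjSpace 1 k (d j)) (fun j => gen k (d j) a)
    fun j => isGen_gen (d j) a

theorem stdBasis_transition (d : Fin r → ℤ) (j : Fin r) :
    rs _ (U01_le k 1) (stdBasis d 1 j) =
      (data k).up (d j) • rs _ (U01_le k 0) (stdBasis d 0 j) := by
  rw [stdBasis, stdBasis, rs_app, rs_app, gen_transition, Scheme.Modules.Hom.app_smul]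

theorem exists_splitting (hE : FlatMod.IsFinLocFreeOfRank r E) :
    ∃ d : Fin r → ℤ, Antitone d ∧
      Nonempty (E ≅ ∐ fun j : Fin r => Twist.twistProjSpace 1 k (d j)) := by
  choose v hv using fun a : Fin 2 =>
    Basis.exists_basis_pid (U := U k a)
      (ProjSpace.Basic.isAffineOpen_basicOpen_X (R := k) a) hE
  obtain ⟨A, hA, hAv⟩ := Basis.exists_matrix ((hv 0).res (U01_le k 0)) ((hv 1).res (U01_le k 1))
  obtain ⟨d, P, Q, hd, hP, hQ, hfac⟩ := (data k).exists_factor_monotone hA
  let T : Fin 2 → Matrix (Fin r) (Fin r) (Polynomial k) := ![Q, P]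
  have hT : ∀ a, IsUnit (T a).det := fun a => by fin_cases a <;> [exact hQ; exact hP]
  let w : ∀ a : Fin 2, Fin r → Γ(E, U k a) := fun a j => ∑ l, chartMat a (T a) l j • v a l
  have hw : ∀ a, IsBasis (w a) := fun a => Basis.isBasis_col (hv a) (isUnit_det_chartMat a (hT a))
  have htr : ∀ j, rs E (U01_le k 1) (w 1 j) = (data k).up (-d j) • rs E (U01_le k 0) (w 0 j) := by
    intro j
    have h0 : rs E (U01_le k 0) (w 0 j) = ∑ i, ((A * Q.map (data k).φ0) i j) • rs E (U01_le k 1) (v 1 i) := by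
      rw [rs_colSum]
      simp only [hAv, Finset.smul_sum, smul_smul]
      rw [Finset.sum_comm]
      refine Finset.sum_congr rfl fun i _ => ?_
      rw [Matrix.mul_apply, Finset.sum_smul]
      refine Finset.sum_congr rfl fun l _ => ?_
      rw [mul_comm]
      rfl
    rw [h0, rs_colSum, Finset.smul_sum, hfac]
    refine Finset.sum_congr rfl fun i _ => ?_
    rw [smul_smul, Matrix.mul_diagonal, mul_left_comm, ← Data.up_add, neg_add_cancel, Data.up_zero,
      mul_one]
    rfl
  choose φ hφ using fun j => exists_hom (-d j) (fun a => w a j) (htr j)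
  refine ⟨fun j => -d j, fun i j hij => neg_le_neg (hd hij), ⟨?_⟩⟩
  let Φ : (∐ fun j => Twist.twistProjSpace 1 k (-d j)) ⟶ E := Sigma.desc φ
  have hΦ : ∀ (a : Fin 2) j, Φ.app (U k a) (stdBasis (fun j => -d j) a j) = w a j := fun a j => by
    change (Sigma.ι (fun j => Twist.twistProjSpace 1 k (-d j)) j ≫ Φ).app (U k a) _ = _
    rw [Sigma.ι_desc]
    exact hφ j a
  have : IsIso Φ := by
    refine TensorMod.LocIso.isIso_of_locally Φ fun x => ?_
    have hxmem : x ∈ iSup (U k) := by rw [iSup_U]; trivial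
    obtain ⟨a, ha⟩ := Opens.mem_iSup.1 hxmem
    refine ⟨U k a, ha, fun V hV => (ConcreteCategory.isIso_iff_bijective _).2 ?_⟩
    refine (Function.Bijective.of_comp_iff _ (isBasis_stdBasis (fun j => -d j) a V hV)).1 ?_
    have h : Φ.app V ∘ comb (stdBasis (fun j => -d j) a) hV = comb (w a) hV := funext fun c => by
      rw [Function.comp_apply, app_comb]
      simp only [hΦ]
    rw [h]
    exact hw a V hV
  exact (asIso Φ).symm

theorem splitting_unique {d e : Fin r → ℤ} (hd : Antitone d) (he : Antitone e)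
    (g : (∐ fun j : Fin r => Twist.twistProjSpace 1 k (d j)) ≅
      ∐ fun j : Fin r => Twist.twistProjSpace 1 k (e j)) : d = e := by
  choose G hG hGb using fun a : Fin 2 =>
    Basis.exists_matrix (Basis.isBasis_map g (isBasis_stdBasis d a)) (isBasis_stdBasis e a)
  choose T hT using fun (a : Fin 2) (i j : Fin r) => (φ_bijective k a).2 (G a i j)
  have hTm : ∀ a, chartMat a (Matrix.of (T a)) = G a := fun a => Matrix.ext (hT a)
  have hdet : ∀ a, IsUnit (Matrix.of (T a)).det := fun a => by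
    have h := hG a
    rw [← hTm a, chartMat, ← RingHom.mapMatrix_apply, ← RingHom.map_det] at h
    obtain ⟨b, hb⟩ := h.exists_right_inv
    obtain ⟨b', rfl⟩ := (φ_bijective k a).2 b
    exact IsUnit.of_mul_eq_one b'
      ((φ_bijective k a).1 ((map_mul _ _ _).trans (hb.trans (map_one _).symm)))
  have hrel : ∀ i j, ψ k 1 (T 1 i j) * (data k).up (e i) = (data k).up (d j) * ψ k 0 (T 0 i j) := by
    intro i0 j
    have h := congrArg (g.hom.app (U01 k)) (stdBasis_transition (k := k) d j)
    rw [Scheme.Modules.Hom.app_smul, ← rs_app, ← rs_app, hGb 1 j, hGb 0 j, ← hTm 1, ← hTm 0,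
      rs_colSum, rs_colSum, Finset.smul_sum] at h
    simp only [stdBasis_transition, smul_smul] at h
    exact congrFun (Basis.coord_unique ((isBasis_stdBasis e 0).res (U01_le k 0)) h) i0
  refine (data k).eq_of_intertwine hd he (P := (Matrix.of (T 1)).transpose)
    (Q := (Matrix.of (T 0)).transpose) (by rw [Matrix.det_transpose]; exact hdet 1)
    (by rw [Matrix.det_transpose]; exact hdet 0) ?_
  ext j i
  rw [Matrix.mul_diagonal, Matrix.diagonal_mul]
  exact hrel i j

end Groth.Agent.H34.SplitP1
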